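import Cfsg.Agent.OD.Pre
import Cfsg.Agent.H6.Top2
import Cfsg.Agent.H6.C2A.D0
set_option autoImplicit false
set_option maxRecDepth 100000
set_option Elab.async false
set_option linter.all false
namespace CfH6.C2A
open CfH6 MulAction
noncomputable def n0_0 : Net := mkNet (nat_lit 2560) [(nat_lit 1280, k0), (nat_lit 640, k1), (nat_lit 320, k2), (nat_lit 160, k3), (nat_lit 80, k4), (nat_lit 40, k5), (nat_lit 20, k6), (nat_lit 10, k7), (nat_lit 5, k8)] [(k9, nat_lit 1), (k10, nat_lit 1), (k11, nat_lit 1), (k12, nat_lit 1), (k13, nat_lit 1)]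
noncomputable def n0_1 : Net := mkNet (nat_lit 2560) [(nat_lit 1280, k14), (nat_lit 640, k15), (nat_lit 320, k16), (nat_lit 160, k17), (nat_lit 80, k18), (nat_lit 40, k19), (nat_lit 20, k20), (nat_lit 10, k21), (nat_lit 5, k22)] [(k23, nat_lit 1), (k24, nat_lit 1), (k25, nat_lit 1), (k26, nat_lit 1), (k27, nat_lit 1)]
noncomputable def n0_2 : Net := mkNet (nat_lit 2560) [(nat_lit 1280, k28), (nat_lit 640, k29), (nat_lit 320, k30), (nat_lit 160, k31), (nat_lit 80, k32), (nat_lit 40, k33), (nat_lit 20, k34), (nat_lit 10, k35), (nat_lit 5, k36)] [(k37, nat_lit 1), (k38, nat_lit 1), (k39, nat_lit 1), (k40, nat_lit 1), (k41, nat_lit 1)]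
noncomputable def n0_3 : Net := mkNet (nat_lit 2560) [(nat_lit 1280, k42), (nat_lit 640, k43), (nat_lit 320, k44), (nat_lit 160, k45), (nat_lit 80, k46), (nat_lit 40, k47), (nat_lit 20, k48), (nat_lit 10, k49), (nat_lit 5, k50)] [(k51, nat_lit 1), (k52, nat_lit 1), (k53, nat_lit 1), (k54, nat_lit 1), (k55, nat_lit 1)]
noncomputable def n0_4 : Net := mkNet (nat_lit 2560) [(nat_lit 1280, k56), (nat_lit 640, k57), (nat_lit 320, k58), (nat_lit 160, k59), (nat_lit 80, k60), (nat_lit 40, k61), (nat_lit 20, k62), (nat_lit 10, k63), (nat_lit 5, k64)] [(k65, nat_lit 1), (k66, nat_lit 1), (k67, nat_lit 1), (k68, nat_lit 1), (k69, nat_lit 1)]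
noncomputable def n0_5 : Net := mkNet (nat_lit 2560) [(nat_lit 1280, k70), (nat_lit 640, k71), (nat_lit 320, k72), (nat_lit 160, k73), (nat_lit 80, k74), (nat_lit 40, k75), (nat_lit 20, k76), (nat_lit 10, k77), (nat_lit 5, k78)] [(k79, nat_lit 1), (k80, nat_lit 1), (k81, nat_lit 1), (k82, nat_lit 1), (k83, nat_lit 1)]
noncomputable def n0_6 : Net := mkNet (nat_lit 2560) [(nat_lit 1280, k84), (nat_lit 640, k85), (nat_lit 320, k86), (nat_lit 160, k87), (nat_lit 80, k88), (nat_lit 40, k89), (nat_lit 20, k90), (nat_lit 10, k91), (nat_lit 5, k92)] [(k93, nat_lit 1), (k94, nat_lit 1), (k95, nat_lit 1), (k96, nat_lit 1), (k97, nat_lit 1)]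
noncomputable def n0_7 : Net := mkNet (nat_lit 2560) [(nat_lit 1280, k98), (nat_lit 640, k99), (nat_lit 320, k100), (nat_lit 160, k101), (nat_lit 80, k102), (nat_lit 40, k103), (nat_lit 20, k104), (nat_lit 10, k105), (nat_lit 5, k106)] [(k107, nat_lit 1), (k108, nat_lit 1), (k109, nat_lit 1), (k110, nat_lit 1), (k111, nat_lit 1)]
noncomputable def n2_0 : Net := mkNet (nat_lit 384) [(nat_lit 192, k112), (nat_lit 96, k113), (nat_lit 48, k114), (nat_lit 24, k115), (nat_lit 12, k116), (nat_lit 6, k117), (nat_lit 3, k118)] [(k119, nat_lit 1), (k120, nat_lit 1), (k121, nat_lit 1)]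
noncomputable def n2_1 : Net := mkNet (nat_lit 384) [(nat_lit 192, k122), (nat_lit 96, k123), (nat_lit 48, k124), (nat_lit 24, k125), (nat_lit 12, k126), (nat_lit 6, k127), (nat_lit 3, k128)] [(k129, nat_lit 1), (k130, nat_lit 1), (k131, nat_lit 1)]
noncomputable def n3_0 : Net := mkNet (nat_lit 32) [(nat_lit 16, (nat_lit 0x269a2282)), (nat_lit 8, (nat_lit 0x2520c684)), (nat_lit 4, (nat_lit 0x2a88cc)), (nat_lit 2, (nat_lit 0xa4aa22))] [((nat_lit 0x111414), nat_lit 1)]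
noncomputable def n3_1 : Net := mkNet (nat_lit 32) [(nat_lit 16, (nat_lit 0x11341134)), (nat_lit 8, (nat_lit 0x600e808)), (nat_lit 4, (nat_lit 0x44ecc8a2)), (nat_lit 2, (nat_lit 0x408084ea))] [((nat_lit 0x410014), nat_lit 1)]
noncomputable def n4_0 : Net := mkNet (nat_lit 32) [(nat_lit 16, (nat_lit 0x16e012f8)), (nat_lit 8, (nat_lit 0x7570d8d8)), (nat_lit 4, (nat_lit 0x44180208)), (nat_lit 2, (nat_lit 0xe4080080))] [((nat_lit 0x40011040), nat_lit 1)]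
noncomputable def n4_1 : Net := mkNet (nat_lit 32) [(nat_lit 16, (nat_lit 0x66086608)), (nat_lit 8, (nat_lit 0x496c0800)), (nat_lit 4, (nat_lit 0x22724400)), (nat_lit 2, (nat_lit 0x64ae8e0))] [((nat_lit 0x1041040), nat_lit 1)]
noncomputable def n5_0 : Net := mkNet (nat_lit 24) [(nat_lit 12, (nat_lit 0xc00c00)), (nat_lit 6, (nat_lit 0xfc0c30)), (nat_lit 3, (nat_lit 0x22e080))] [((nat_lit 0x240040), nat_lit 1), ((nat_lit 0x82400), nat_lit 1), ((nat_lit 0x41000), nat_lit 1)]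
noncomputable def n5_1 : Net := mkNet (nat_lit 24) [(nat_lit 12, (nat_lit 0x3a03a0)), (nat_lit 6, (nat_lit 0x9e4c00)), (nat_lit 3, (nat_lit 0x110200))] [((nat_lit 0x48000), nat_lit 1), ((nat_lit 0x80480), nat_lit 1), ((nat_lit 0x40040), nat_lit 1)]
noncomputable def n6_0 : Net := mkNet (nat_lit 10) [(nat_lit 5, (nat_lit 0))] [((nat_lit 0x40), nat_lit 1)]
noncomputable def n6_1 : Net := mkNet (nat_lit 10) [(nat_lit 5, (nat_lit 0))] [((nat_lit 0x20), nat_lit 1), ((nat_lit 0x40), nat_lit 1)]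
noncomputable def nets0 : List Net := [n0_0, n0_1, n0_2, n0_3, n0_4, n0_5, n0_6, n0_7]
noncomputable def nets1 : List Net := [n0_0, n0_1, n0_2, n0_3, n0_5, n0_6, n0_7]
def ws1 : List (List ℕ) := [[0],
  [1],
  [2],
  [3],
  [5],
  [6],
  [7]]
noncomputable def nets2 : List Net := [n2_0, n2_1]
def ws2 : List (List ℕ) := [[1, 6, 3, 2, 1, 6, 3, 2, 4, 5, 2, 3, 4, 0, 2, 1, 3, 6],
  [0, 5, 2, 6, 3, 2, 5, 6, 3, 5, 2, 1, 0, 4, 5, 0]]
noncomputable def nets3 : List Net := [n3_0, n3_1]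
def ws3 : List (List ℕ) := [[0, 0, 1, 1, 0, 0, 1, 1, 0, 1],
  [0, 0, 1, 0, 0, 1, 1, 1, 1, 0]]
noncomputable def nets4 : List Net := [n4_0, n4_1]
def ws4 : List (List ℕ) := [[0, 0, 0, 1, 1, 0, 1, 1, 0],
  [0, 0, 1, 1, 1, 0, 0, 0]]
noncomputable def nets5 : List Net := [n5_0, n5_1]
def ws5 : List (List ℕ) := [[1, 1, 0, 0, 1, 1, 1, 1, 1, 0],
  [1, 0, 0, 1, 1, 0, 0, 0]]
noncomputable def nets6 : List Net := [n6_0, n6_1]
def ws6 : List (List ℕ) := [[0, 1, 1, 0, 1, 0, 0],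
  [0, 0, 1, 1, 0, 1]]
noncomputable def nets7 : List Net := [n6_0]
def ws7 : List (List ℕ) := [[0]]
def sig : List (List ℕ) := [[0],
  [1],
  [2],
  [3],
  [4],
  [5],
  [6],
  [7]]
def eqs0 : List (List ℕ × List ℕ) := [([0, 0], []),
  ([1, 1], []),
  ([2, 2], []),
  ([3, 3], []),
  ([4, 4], []),
  ([5, 5], []),
  ([6, 6], []),
  ([7, 7], []),
  ([0, 1], [1, 0]),
  ([0, 2, 0], [2, 0, 2]),
  ([0, 3], [3, 0]),
  ([0, 4], [4, 0]),
  ([0, 5, 0], [5, 0, 5]),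
  ([0, 6], [6, 0]),
  ([0, 7], [7, 0]),
  ([1, 2, 1], [2, 1, 2]),
  ([1, 3, 1, 3], [3, 1, 3, 1]),
  ([1, 4], [4, 1]),
  ([1, 5, 1, 5], [5, 1, 5, 1]),
  ([1, 6], [6, 1]),
  ([1, 7], [7, 1]),
  ([2, 3, 2], [3, 2, 3]),
  ([2, 4], [4, 2]),
  ([2, 5], [5, 2]),
  ([2, 6, 2, 6], [6, 2, 6, 2]),
  ([2, 7], [7, 2]),
  ([3, 4, 3], [4, 3, 4]),
  ([3, 5, 3], [5, 3, 5]),
  ([3, 6], [6, 3]),
  ([3, 7, 3, 7], [7, 3, 7, 3]),
  ([4, 5], [5, 4]),
  ([4, 6], [6, 4]),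
  ([4, 7], [7, 4]),
  ([5, 6, 5], [6, 5, 6]),
  ([5, 7], [7, 5]),
  ([6, 7], [7, 6]),
  ([1, 2, 3, 1, 2, 3, 1, 2], [3, 2, 1, 3, 2, 1, 3]),
  ([0, 1, 2, 3, 2, 0, 1, 2, 3, 2, 0, 1, 2], [2, 3, 2, 0, 1, 2, 3, 2, 0, 1, 2, 3]),
  ([0, 1, 2, 0, 1, 3, 1, 2, 0, 1, 3, 1, 2], [3, 1, 2, 0, 1, 3, 1, 2, 0, 1, 3, 1]),
  ([1, 3, 1, 3, 4], [4, 3, 1, 3]),
  ([0, 1, 2, 0, 3, 1, 3, 2, 5, 0, 1, 3], [3, 1, 3, 2, 5, 0, 3, 1, 2, 3, 2, 1]),
  ([1, 3, 5, 1, 3], [5, 3, 1, 5]),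
  ([0, 2, 3, 6, 2, 0, 6, 2, 3], [6, 2, 3, 6, 2, 0, 6, 2, 6]),
  ([1, 2, 1, 5, 1], [5, 1, 5, 2]),
  ([1, 2, 1, 3, 1, 3, 2, 1, 6], [6, 5, 3, 2, 6, 2, 3, 5]),
  ([0, 1, 3, 6, 7], [3, 7, 3, 1, 3]),
  ([2, 5, 6, 2, 5], [6, 2, 5, 6]),
  ([0, 3, 5, 6, 7, 3, 5, 0], [5, 6, 7, 3, 5, 7, 3, 7]),
  ([7, 4, 3, 5, 4, 2, 3, 7, 4, 3, 5, 4, 2, 3, 7, 4, 3, 5], [3, 2, 4, 5, 3, 4, 7, 3, 2, 4, 5, 3, 4, 7, 3, 2, 4])]
def eqs : List (List ℕ × List ℕ) := eqs0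
def lU : List (ℕ × ℕ) := [(0, 9), (10, 12), (24, 3), (32, 302), (384, 1974)]
noncomputable def U : ℕ := ivls lU
def l1 : List (ℕ × ℕ) := [(1, 7), (10, 12), (24, 3), (32, 302), (384, 567)]
noncomputable def S1 : ℕ := ivls l1
def w1 : List ℕ := [4]
def l2 : List (ℕ × ℕ) := [(8, 1), (951, 1407)]
noncomputable def S2 : ℕ := ivls l2
def w2 : List ℕ := [4, 3, 5, 0, 2, 3, 4]
noncomputable def J : List (List ℕ × ℕ × ℕ) := [(w1, 1, S1), (w2, 8, S2)]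
def lBig : List (ℕ × ℕ) := [(8, 1), (951, 1407)]
noncomputable def J2 : List (List ℕ × ℕ × ℕ) := [([0], 8, S2)]
noncomputable def J1 : List (List ℕ × ℕ × ℕ) := [([0, 4, 5, 1, 3, 4, 0], 8, S2)]
def ex : List (List ℕ) := [[4, 3, 2, 6, 5, 0]]
def bs' : List ℕ := [0, 8, 1, 2, 3, 4, 5, 6]
end CfH6.C2A
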